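import Groth.Agent.AmpLocal.Basic
import Groth.Agent.WeakEt.TorAmp
import Groth.Agent.TorSmooth.Basic
import Groth.Agent.DQCoh.AffineAmp
import Groth.Agent.DQCoh.RelTor
import Groth.Agent.TildeKFlat.Main

/-!
# Stalkwise tor amplitude on an affine scheme
-/

set_option autoImplicit false
set_option linter.style.haveILetI false
set_option backward.isDefEq.respectTransparency false
set_option backward.isDefEq.respectTransparency.types false
universe u

namespace Groth.Agent.AmpLocal

open CategoryTheory Limits DerivedCategory HomologicalComplex AlgebraicGeometry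
open Groth.Agent.DRingKP Groth.Agent.KSixLib
open Groth.Agent.TildeKFlat (toStalkRing)

attribute [local instance] HasDerivedCategory.standard

variable {R A : CommRingCat.{u}} (φ : R ⟶ A)

local notation "fS" => Spec.map φ

lemma stalk_sq (x : Spec A) :
    ((fS).stalkMap x).hom.comp (toStalkRing (R := R) ((fS).base x)) = (toStalkRing (R := A) x).comp φ.hom :=
  RingHom.ext fun a => stalkMap_toStalk_apply φ x a

lemma isLocalization_stalk {R : CommRingCat.{u}} (x : Spec R) :
    @IsLocalization R _ x.asIdeal.primeCompl ((Spec R).presheaf.stalk x) _ (toStalkRing (R := R) x).toAlgebra :=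
  letI : Algebra R ((Spec R).presheaf.stalk x) := (toStalkRing (R := R) x).toAlgebra
  inferInstanceAs (IsLocalization.AtPrime ((structurePresheafInCommRingCat R).stalk x) x.asIdeal)

lemma detects_stalk : @Detects A _ (Spec A) (fun x => (Spec A).presheaf.stalk x) _
    (fun x => (toStalkRing (R := A) x).toAlgebra) := by
  letI : ∀ x : Spec A, Algebra A ((Spec A).presheaf.stalk x) := fun x => (toStalkRing (R := A) x).toAlgebra
  intro M _ _ h
  haveI : ∀ (J : Ideal A) [hJ : J.IsMaximal], IsLocalizedModule J.primeCompl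
      (TensorProduct.mk A ((Spec A).presheaf.stalk ⟨J, hJ.isPrime⟩) M 1) := fun J hJ => by
    haveI : IsLocalization J.primeCompl ((Spec A).presheaf.stalk ⟨J, hJ.isPrime⟩) :=
      isLocalization_stalk (R := A) ⟨J, hJ.isPrime⟩
    exact (isLocalizedModule_iff_isBaseChange J.primeCompl ((Spec A).presheaf.stalk ⟨J, hJ.isPrime⟩) _).2
      (TensorProduct.isBaseChange A M _)
  exact @Module.subsingleton_of_localization_maximal _ _ _ _ _
    (fun (J : Ideal A) (hJ : J.IsMaximal) => TensorProduct A ((Spec A).presheaf.stalk ⟨J, hJ.isPrime⟩) M)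
    _ _
    (fun (J : Ideal A) (hJ : J.IsMaximal) => TensorProduct.mk A ((Spec A).presheaf.stalk ⟨J, hJ.isPrime⟩) M 1) this
    fun J hJ => h ⟨J, hJ.isPrime⟩

variable [PreservesFiniteLimits (tilde.functor A)]

/-- the complex of stalks of `P~` -/
noncomputable def stalkTildeIso (P : DRing.Cx A) (x : Spec A) :
    ((DQCoh.stA fS x).mapHomologicalComplex (ComplexShape.up ℤ)).obj ((DQCoh.tCx (R := A)).obj P) ≅
      (resCx ((fS).stalkMap x).hom).obj ((bc (toStalkRing (R := A) x)).obj P) :=
  HomologicalComplex.Hom.isoOfComponents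
    (fun n => (ModuleCat.restrictScalars ((fS).stalkMap x).hom).mapIso
      ((asIso (TildeKFlat.cmp (R := A) x)).app (P.X n)).symm)
    (fun i j _ => by
      change (ModuleCat.restrictScalars ((fS).stalkMap x).hom).map ((asIso (TildeKFlat.cmp (R := A) x)).inv.app (P.X i)) ≫
          (ModuleCat.restrictScalars ((fS).stalkMap x).hom).map
            ((ModuleCat.extendScalars (toStalkRing (R := A) x)).map (P.d i j)) =
        (ModuleCat.restrictScalars ((fS).stalkMap x).hom).map
            ((DerSch.stalkFunctor (Spec A) x).map ((tilde.functor A).map (P.d i j))) ≫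
          (ModuleCat.restrictScalars ((fS).stalkMap x).hom).map ((asIso (TildeKFlat.cmp (R := A) x)).inv.app (P.X j))
      rw [← Functor.map_comp, ← Functor.map_comp]
      exact congrArg _ ((asIso (TildeKFlat.cmp (R := A) x)).inv.naturality (P.d i j)).symm)

/-- **stalkwise tor amplitude of `P~` over the base is tor amplitude of `P`** -/
theorem torAmplitude_tilde_iff (M : Dual.D A) (F : CochainComplex (Spec A).Modules ℤ)
    (hF : Nonempty (DCoh.toD (Spec A) F ≅ (DCoh.tildeD A).obj M)) (a b : ℤ) :
    DerSch.HasTorAmplitude fS a b F ↔ DRing.HasTorAmplitudeIn R a b ((DRing.restrictD φ.hom).obj M) := by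
  obtain ⟨eF⟩ := hF
  let P := DerivedCategory.Q.objPreimage M
  let eP : DRing.toD P ≅ M := DerivedCategory.Q.objObjPreimageIso M
  let eR : (DRing.restrictD φ.hom).obj M ≅ DRing.toD ((resCx φ.hom).obj P) :=
    (DRing.restrictD φ.hom).mapIso eP.symm ≪≫ (ModuleCat.restrictScalars φ.hom).mapDerivedCategoryFactors.app P
  let ex := fun x : Spec A =>
    ((DQCoh.stA fS x).mapDerivedCategoryFactors.app F).symm ≪≫
      (DQCoh.stA fS x).mapDerivedCategory.mapIso (eF ≪≫ (DCoh.tildeD A).mapIso eP.symm ≪≫
        DQCoh.tildeToDIso (R := A) P) ≪≫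
      (DQCoh.stA fS x).mapDerivedCategoryFactors.app _ ≪≫ DerivedCategory.Q.mapIso (stalkTildeIso φ P x)
  letI : ∀ x : Spec A, Algebra A ((Spec A).presheaf.stalk x) := fun x => (toStalkRing (R := A) x).toAlgebra
  letI : ∀ x : Spec A, Algebra R ((Spec R).presheaf.stalk ((fS).base x)) :=
    fun x => (toStalkRing (R := R) ((fS).base x)).toAlgebra
  haveI hlA : ∀ x : Spec A, IsLocalization x.asIdeal.primeCompl ((Spec A).presheaf.stalk x) := fun x =>
    isLocalization_stalk x
  haveI hlR : ∀ x : Spec A, IsLocalization ((fS).base x).asIdeal.primeCompl ((Spec R).presheaf.stalk ((fS).base x)) :=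
    fun x => inferInstanceAs
      (IsLocalization.AtPrime ((structurePresheafInCommRingCat R).stalk ((fS).base x)) ((fS).base x).asIdeal)
  haveI : ∀ x : Spec A, Module.Flat A ((Spec A).presheaf.stalk x) := fun x =>
    IsLocalization.flat _ x.asIdeal.primeCompl
  haveI : ∀ x : Spec A, Module.Flat R ((Spec R).presheaf.stalk ((fS).base x)) := fun x =>
    IsLocalization.flat _ ((fS).base x).asIdeal.primeCompl
  constructor
  · intro h
    refine amp_of_iso eR.symm (amp_of_family (fun x : Spec A => (Spec A).presheaf.stalk x)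
      (fun x : Spec A => (Spec R).presheaf.stalk ((fS).base x)) detects_stalk φ.hom
      (fun x => ((fS).stalkMap x).hom) (stalk_sq φ) P a b fun x => amp_of_iso (ex x) (h x))
  · intro h x
    refine amp_of_iso (ex x).symm ?_
    haveI : Algebra.WeaklyEtale R ((Spec R).presheaf.stalk ((fS).base x)) :=
      TorSmooth.weaklyEtale_of_isLocalization ((fS).base x).asIdeal.primeCompl
    let Z := (bc (toStalkRing (R := A) x)).obj P
    let ψ' := ((fS).stalkMap x).hom
    let χA := toStalkRing (R := R) ((fS).base x)
    let θ := (toStalkRing (R := A) x).comp φ.hom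
    have h1 : DRing.HasTorAmplitudeIn R a b (DRing.toD ((resCx θ).obj Z)) :=
      amp_flat_bc φ.hom (toStalkRing (R := A) x) (RingHom.flat_algebraMap_iff.2 inferInstance) θ rfl P
        (amp_of_iso eR h)
    let i := ModuleCat.restrictScalarsComp'.{u} χA ψ' θ (stalk_sq φ x).symm
    refine (WeakEt.amp_res_iff (A := R) a b _).1 (amp_of_iso ?_ h1)
    exact DerivedCategory.Q.mapIso
        (HomologicalComplex.Hom.isoOfComponents (fun n => i.app (Z.X n))
          (fun p q _ => (i.hom.naturality (Z.d p q)).symm) :
          (resCx θ).obj Z ≅ (resCx χA).obj ((resCx ψ').obj Z)) ≪≫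
      ((ModuleCat.restrictScalars χA).mapDerivedCategoryFactors.app ((resCx ψ').obj Z)).symm

end Groth.Agent.AmpLocal
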