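import Groth.Agent.KSixLib.TensorRing
import Groth.Agent.RelPC.LBC

/-!
# Tor amplitude over a base from localisations
-/

set_option autoImplicit false
set_option linter.style.haveILetI false
set_option backward.isDefEq.respectTransparency false
set_option backward.isDefEq.respectTransparency.types false
universe u

namespace Groth.Agent.AmpLocal

open CategoryTheory Limits DerivedCategory MonoidalCategory HomologicalComplex
open Groth.Agent.DRingKP Groth.Agent.KSixLib

attribute [local instance] HasDerivedCategory.standard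

variable {A B : Type u} [CommRing A] [CommRing B]

/-- base change of total tensor products -/
noncomputable def bcTotIso (φ : A →+* B) (L K : DRing.Cx A) :
    ((KFlat.tens (tB B)).obj ((bc φ).obj L)).obj ((bc φ).obj K) ≅ (bc φ).obj (((KFlat.tens (tB A)).obj L).obj K) :=
  haveI : PreservesColimitsOfSize.{0, 0} (ModuleCat.extendScalars.{u, u, u} φ) :=
    preservesSmallestColimits_of_preservesColimits.{u, u, u, u + 1, u + 1, u} _
  KFlat.mapTensIso (ModuleCat.extendScalars.{u, u, u} φ) (ModuleCat.extendScalars.{u, u, u} φ) (𝟭 _) (𝟭 _)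
    (ModuleCat.extendScalars.{u, u, u} φ) (tB A) (tB B)
    (fun M N => Functor.Monoidal.μIso (ModuleCat.extendScalars.{u, u, u} φ) M N)
    (fun f N => Functor.LaxMonoidal.μ_natural_left (ModuleCat.extendScalars.{u, u, u} φ) f N)
    (fun M _ _ g => Functor.LaxMonoidal.μ_natural_right (ModuleCat.extendScalars.{u, u, u} φ) M g) L K

lemma detects_maximal : Detects (A := B) fun m : MaximalSpectrum B => Localization.AtPrime m.asIdeal := by
  intro M _ _ h
  refine Module.subsingleton_of_localization_maximal
    (fun (J : Ideal B) (_ : J.IsMaximal) => TensorProduct B (Localization.AtPrime J) M)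
    (fun (J : Ideal B) (_ : J.IsMaximal) => TensorProduct.mk B (Localization.AtPrime J) M 1) ?_
  intro J hJ
  exact h ⟨J, hJ⟩

/-- **tor amplitude over the base from a detecting flat family** -/
theorem amp_of_family {ι : Type u} (C D : ι → Type u) [∀ i, CommRing (C i)] [∀ i, CommRing (D i)]
    [∀ i, Algebra B (C i)] [∀ i, Module.Flat B (C i)] (hC : Detects (A := B) C)
    [∀ i, Algebra A (D i)] [∀ i, Module.Flat A (D i)] (ψ : A →+* B) (ψ' : ∀ i, D i →+* C i)
    (hsq : ∀ i, (ψ' i).comp (algebraMap A (D i)) = (algebraMap B (C i)).comp ψ)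
    (K : DRing.Cx B) (a b : ℤ)
    (h : ∀ m, DRing.HasTorAmplitudeIn (D m) a b
      (DRing.toD ((resCx (ψ' m)).obj ((bc (algebraMap B (C m))).obj K)))) :
    DRing.HasTorAmplitudeIn A a b (DRing.toD ((resCx ψ).obj K)) := by
  have hK : ∀ i, b < i → K.ExactAt i := fun i hi => (exactAt_iff_isZero_homology _ _).2
    (isZero_homology_of_bc hC K i fun m => by
      have h1 : ((resCx (ψ' m)).obj ((bc (algebraMap B (C m))).obj K)).ExactAt i :=
        (exactAt_iff_isZero_homology _ _).2 ((torVan_isAbove (h m) i (by lia)).of_iso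
          ((DerivedCategory.homologyFunctorFactors _ i).app _).symm)
      refine ((exactAt_iff_isZero_homology _ _).1 ?_).of_iso ((DerivedCategory.homologyFunctorFactors _ i).app _)
      rw [exactAt_iff] at h1 ⊢
      exact (ShortComplex.exact_map_iff_of_faithful _ (ModuleCat.restrictScalars.{u} _)).1 h1)
  obtain ⟨G, c, hGb, hG, ⟨e⟩⟩ := exists_proj_rep_le (DRing.toD ((resCx ψ).obj K))
    ⟨b + 1, fun i hi => ((exactAt_iff_isZero_homology _ _).1 (by
      have := hK i (by lia)
      rw [exactAt_iff] at this ⊢
      exact this.map (ModuleCat.restrictScalars.{u} ψ))).of_iso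
        ((DerivedCategory.homologyFunctorFactors _ i).app _)⟩
  haveI := isKProjective_of_vanishesAbove hGb hG
  refine amp_iff_torVan.2 ⟨G, c, hGb, flat_of_projective hG, ⟨e⟩, fun Q i hi => ?_⟩
  let R := projectiveResolution Q
  let PR := R.cochainComplex
  let Q0 := (HomologicalComplex.single _ (ComplexShape.up ℤ) 0).obj Q
  obtain ⟨g, hg⟩ := PerfLocal.exists_lift e.hom
  haveI : IsIso (DerivedCategory.Q.map g) := by rw [hg]; infer_instance
  haveI hgq : QuasiIso g := (DerivedCategory.isIso_Q_map_iff_quasiIso _ g).1 inferInstance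
  haveI h1 : QuasiIso (((KFlat.tens (tB A)).map g).app PR) := (isKFlat_res R).quasiIso_map_app g
  haveI h2 : QuasiIso (((KFlat.tens (tB A)).map (resToSingle R)).app G) :=
    ((rflat_iff G).2 (isKFlat_of_bounded hGb (flat_of_projective hG))).quasiIso_map_app (resToSingle R)
  let H := HomologicalComplex.homologyFunctor (ModuleCat.{u} A) (ComplexShape.up ℤ) i
  have key : (((KFlat.tens (tB A)).obj ((resCx ψ).obj K)).obj PR).ExactAt i := by
    have hX : ((bc ψ).obj PR ⊗ K).ExactAt i := (exactAt_iff_isZero_homology _ _).2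
      (isZero_homology_of_bc hC _ i fun m => by
        let χ := algebraMap B (C m)
        let χA := algebraMap A (D m)
        haveI : PreservesFiniteLimits (ModuleCat.extendScalars.{u, u, u} χA) :=
          ModuleCat.preservesFiniteLimits_extendScalars_of_flat (RingHom.flat_algebraMap_iff.mpr inferInstance)
        haveI : PreservesFiniteColimits (ModuleCat.extendScalars.{u, u, u} χA) := inferInstance
        have hPb : DRing.VanishesAbove PR 0 := (CochainComplex.isStrictlyLE_iff _ 0).1 inferInstance
        have hPk : DRingKP.IsKFlat ((bc χA).obj PR) := isKFlat_of_bounded (b := 0)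
          (fun j hj => (ModuleCat.extendScalars.{u, u, u} χA).map_isZero (hPb j hj))
          fun j => extendScalars_flat χA (flat_of_projective (P := PR) (fun _ => inferInstance) j)
        have hPz : ∀ j : ℤ, j < 0 ∨ 0 < j → ((bc χA).obj PR).ExactAt j := fun j hj => by
          have hs : PR.ExactAt j := (exactAt_iff_isZero_homology _ _).2
            (IsZero.of_iso ((exactAt_iff_isZero_homology _ _).1
              (HomologicalComplex.exactAt_single_obj (ComplexShape.up ℤ) 0 Q j (by lia)))
              (isoOfQuasiIsoAt (resToSingle R) j))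
          rw [exactAt_iff] at hs ⊢
          exact hs.map (ModuleCat.extendScalars.{u, u, u} χA)
        have hloc : ((bc (ψ' m)).obj ((bc χA).obj PR) ⊗ (bc χ).obj K).ExactAt i :=
          exactAt_bc_tensor (ψ' m) hPk _ (h m) hPz i (by lia)
        let eP : (bc (ψ' m)).obj ((bc χA).obj PR) ≅ (bc χ).obj ((bc ψ).obj PR) :=
          RelPC.bcCompIso χA (ψ' m) (χ.comp ψ) (hsq m) PR ≪≫ (RelPC.bcCompIso ψ χ (χ.comp ψ) rfl PR).symm
        exact ((exactAt_iff_isZero_homology _ _).1
          (hloc.of_iso (whiskerRightIso eP _ ≪≫ bcTotIso χ _ K))).of_iso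
            ((DerivedCategory.homologyFunctorFactors _ i).app _))
    have hY : ((resCx ψ).obj (((KFlat.tens (tB B)).obj K).obj ((bc ψ).obj PR))).ExactAt i := by
      have := hX.of_iso (KFlat.swapIso (tBraid B) ((bc ψ).obj PR) K)
      rw [exactAt_iff] at this ⊢
      exact this.map (ModuleCat.restrictScalars.{u} ψ)
    exact hY.of_iso (resTotIso ψ K PR).symm
  rw [exactAt_iff_isZero_homology] at key
  exact ((H.mapIso (KFlat.swapIso (tBraid A) Q0 G ≪≫ tensSingleIso G Q)).symm ≪≫
      (@isoOfQuasiIsoAt _ _ _ _ _ _ _ (((KFlat.tens (tB A)).map (resToSingle R)).app G) i _ _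
        ((quasiIso_iff _).1 h2 i)).symm ≪≫
      H.mapIso (KFlat.swapIso (tBraid A) PR G) ≪≫
      @isoOfQuasiIsoAt _ _ _ _ _ _ _ (((KFlat.tens (tB A)).map g).app PR) i _ _
        ((quasiIso_iff _).1 h1 i)).isZero_iff.2 key

variable [Algebra A B]

/-- **tor amplitude over the base from the localisations at maximal ideals** -/
theorem amp_of_local (K : DRing.Cx B) (a b : ℤ)
    (h : ∀ (m : Ideal B) [m.IsMaximal], DRing.HasTorAmplitudeIn (Localization.AtPrime (m.comap (algebraMap A B))) a b
      (DRing.toD ((resCx (Localization.localRingHom (m.comap (algebraMap A B)) m (algebraMap A B) rfl)).obj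
        ((bc (algebraMap B (Localization.AtPrime m))).obj K)))) :
    DRing.HasTorAmplitudeIn A a b (DRing.toD ((resCx (algebraMap A B)).obj K)) :=
  amp_of_family (fun m : MaximalSpectrum B => Localization.AtPrime m.asIdeal)
    (fun m : MaximalSpectrum B => Localization.AtPrime (m.asIdeal.comap (algebraMap A B))) detects_maximal
    (algebraMap A B) (fun m => Localization.localRingHom _ m.asIdeal (algebraMap A B) rfl)
    (fun m => RingHom.ext fun x => Localization.localRingHom_to_map _ _ _ rfl x) K a b
    fun m => haveI := m.isMaximal; h m.asIdeal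

end Groth.Agent.AmpLocal
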